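import Groth.Agent.KSix54.Prod.RingPC
import Groth.Agent.KSix54.Pull.TorInd

/-! Products of pseudo-coherent morphisms. -/

set_option linter.style.haveILetI false
set_option backward.isDefEq.respectTransparency.types false

universe u

open CategoryTheory CategoryTheory.Limits AlgebraicGeometry

attribute [local instance] HasDerivedCategory.standard

namespace Groth.Agent.KSix54.Prod

variable {S X Y X' Y' Y₁ : Scheme.{u}} {n : ℤ}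

/-- Base change along a tor-independent square of flat schemes over a base. -/
theorem isNPseudoCoherent_bc_torIndep {f : X ⟶ Y} {h : Y' ⟶ Y} {g : X' ⟶ X} {f' : X' ⟶ Y'}
    (hc : IsPullback g f' f h) (q : Y ⟶ S) [Flat q] [Flat (f ≫ q)] {q₁ : Y₁ ⟶ S} {p₁ : Y' ⟶ Y₁}
    (hY : IsPullback h p₁ q q₁) (hf : DerSch.IsNPseudoCoherent f n) :
    DerSch.IsNPseudoCoherent f' n := by
  show NPC.{u} n f'
  refine (HasRingHomProperty.iff_exists_appLE (P := NPC.{u} n) (stableSource n)).2 fun z => ?_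
  have e₁ : h (f' z) = f (g z) := (congrArg (fun k => k.base z) hc.w).symm
  have e₂ : q₁ (p₁ (f' z)) = q (h (f' z)) := (congrArg (fun k => k.base (f' z)) hY.w).symm
  obtain ⟨T, hT, hxT, -⟩ :=
    exists_isAffineOpen_mem_and_subset (X := S) (x := q (h (f' z))) (U := ⊤) trivial
  obtain ⟨V, hV, hxV, hVT⟩ := exists_isAffineOpen_mem_and_subset (x := h (f' z)) (U := q ⁻¹ᵁ T) hxT
  obtain ⟨V₁, hV₁, hxV₁, hV₁T⟩ := exists_isAffineOpen_mem_and_subset (x := p₁ (f' z)) (U := q₁ ⁻¹ᵁ T)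
    (show q₁ (p₁ (f' z)) ∈ T from e₂ ▸ hxT)
  obtain ⟨U, hU, hxU, hUV⟩ := exists_isAffineOpen_mem_and_subset (x := g z) (U := f ⁻¹ᵁ V)
    (show f (g z) ∈ V from e₁ ▸ hxV)
  let W := h ⁻¹ᵁ V ⊓ p₁ ⁻¹ᵁ V₁
  have hpoY := (isIso_pushoutSection_iff hY hV₁T hVT rfl).1
    (isIso_pushoutSection_of_isAffineOpen hY hV₁T hVT (UY := W) rfl hT hV₁ hV)
  have hW : IsAffineOpen W := by
    haveI : IsAffine _ := hT
    haveI : IsAffine _ := hV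
    haveI : IsAffine _ := hV₁
    exact .of_isIso (Scheme.Hom.isPullback_resLE hY hV₁T hVT rfl).isoPullback.hom
  have hWV : W ≤ h ⁻¹ᵁ V := inf_le_left
  let U' := g ⁻¹ᵁ U ⊓ f' ⁻¹ᵁ W
  have hpoX := (isIso_pushoutSection_iff hc hWV hUV rfl).1
    (isIso_pushoutSection_of_isAffineOpen hc hWV hUV (UY := U') rfl hV hW hU)
  have hU' : IsAffineOpen U' := by
    haveI : IsAffine _ := hV
    haveI : IsAffine _ := hU
    haveI : IsAffine _ := hW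
    exact .of_isIso (Scheme.Hom.isPullback_resLE hc hWV hUV rfl).isoPullback.hom
  refine ⟨⟨W, hW⟩, ⟨U', hU'⟩, ⟨hxU, hxV, hxV₁⟩, inf_le_right, ?_⟩
  have hQ := HasRingHomProperty.appLE (NPC.{u} n) f hf ⟨V, hV⟩ ⟨U, hU⟩ hUV
  have hq : (q.appLE T V hVT).hom.Flat :=
    HasRingHomProperty.appLE @Flat q inferInstance ⟨T, hT⟩ ⟨V, hV⟩ hVT
  have hUT : U ≤ (f ≫ q) ⁻¹ᵁ T := hUV.trans (f.preimage_mono hVT)
  have hfq : ((f ≫ q).appLE T U hUT).hom.Flat :=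
    HasRingHomProperty.appLE @Flat (f ≫ q) inferInstance ⟨T, hT⟩ ⟨U, hU⟩ hUT
  rw [← Scheme.Hom.appLE_comp_appLE f q T V U hVT hUV] at hfq
  let a := q.appLE T V hVT
  let r := q₁.appLE T V₁ hV₁T
  let α := h.appLE V W hWV
  let α' := p₁.appLE V₁ W inf_le_right
  let b := f.appLE V U hUV
  let β := g.appLE U U' inf_le_left
  let b' := f'.appLE W U' inf_le_right
  letI := a.hom.toAlgebra
  letI := r.hom.toAlgebra
  letI := α.hom.toAlgebra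
  letI := α'.hom.toAlgebra
  letI := b.hom.toAlgebra
  letI := β.hom.toAlgebra
  letI := b'.hom.toAlgebra
  letI : Algebra Γ(S, T) Γ(Y', W) := (α.hom.comp a.hom).toAlgebra
  letI : Algebra Γ(S, T) Γ(X, U) := (b.hom.comp a.hom).toAlgebra
  letI : Algebra Γ(Y, V) Γ(X', U') := (b'.hom.comp α.hom).toAlgebra
  haveI : IsScalarTower Γ(S, T) Γ(Y, V) Γ(Y', W) := .of_algebraMap_eq fun _ => rfl
  haveI : IsScalarTower Γ(S, T) Γ(Y₁, V₁) Γ(Y', W) := .of_algebraMap_eq' congr(($hpoY.w).hom)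
  haveI : IsScalarTower Γ(S, T) Γ(Y, V) Γ(X, U) := .of_algebraMap_eq fun _ => rfl
  haveI : IsScalarTower Γ(Y, V) Γ(Y', W) Γ(X', U') := .of_algebraMap_eq fun _ => rfl
  haveI : IsScalarTower Γ(Y, V) Γ(X, U) Γ(X', U') := .of_algebraMap_eq' congr(($hpoX.w).hom).symm
  haveI : Algebra.IsPushout Γ(S, T) Γ(Y, V) Γ(Y₁, V₁) Γ(Y', W) := CommRingCat.isPushout_iff_isPushout.1 hpoY
  haveI : Algebra.IsPushout Γ(S, T) Γ(Y₁, V₁) Γ(Y, V) Γ(Y', W) := Algebra.IsPushout.symm inferInstance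
  haveI : Algebra.IsPushout Γ(Y, V) Γ(X, U) Γ(Y', W) Γ(X', U') := CommRingCat.isPushout_iff_isPushout.1 hpoX
  haveI : Algebra.IsPushout Γ(Y, V) Γ(Y', W) Γ(X, U) Γ(X', U') := Algebra.IsPushout.symm inferInstance
  haveI : Module.Flat Γ(S, T) Γ(Y, V) := hq
  haveI : Module.Flat Γ(S, T) Γ(X, U) := hfq
  exact nq_pushout_torInd (R := Γ(S, T)) (R' := Γ(Y₁, V₁)) (A := Γ(Y, V)) (A' := Γ(Y', W))
    (B := Γ(X, U)) (B' := Γ(X', U')) hQ

variable {X₁ X₂ Y₂ : Scheme.{u}}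

/-- Products of pseudo-coherent morphisms, flat second factor. -/
theorem isNPseudoCoherent_prod (f₁ : X₁ ⟶ Y₁) (q₁ : Y₁ ⟶ S) (f₂ : X₂ ⟶ Y₂) (q₂ : Y₂ ⟶ S)
    [Flat q₂] [Flat (f₂ ≫ q₂)]
    {pX₁ : X ⟶ X₁} {pX₂ : X ⟶ X₂} (hX : IsPullback pX₁ pX₂ (f₁ ≫ q₁) (f₂ ≫ q₂))
    {pY₁ : Y ⟶ Y₁} {pY₂ : Y ⟶ Y₂} (hY : IsPullback pY₁ pY₂ q₁ q₂)
    {f : X ⟶ Y} (hf₁ : f ≫ pY₁ = pX₁ ≫ f₁) (hf₂ : f ≫ pY₂ = pX₂ ≫ f₂)
    (h₁ : DerSch.IsNPseudoCoherent f₁ n) (h₂ : DerSch.IsNPseudoCoherent f₂ n) :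
    DerSch.IsNPseudoCoherent f n := by
  obtain ⟨M, a, b, pM₁, pM₂, s₁, s₂, hM, -, -, rfl⟩ := Pull.exists_prod_factor f₁ q₁ f₂ q₂ hX hY hf₁ hf₂
  haveI : Flat pM₁ := MorphismProperty.of_isPullback hM.flip (inferInstanceAs (Flat (f₂ ≫ q₂)))
  have h := isNPseudoCoherent_comp (isNPseudoCoherent_baseChange f₁ a pX₁ pM₁ s₁ h₁)
    (isNPseudoCoherent_bc_torIndep s₂ q₂ hY.flip h₂)
  rwa [max_self] at h

end Groth.Agent.KSix54.Prod
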