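import Groth.Agent.KSix54.Rel.BaseChange
import Groth.Agent.KSix54.Pull.BCRing
import Groth.Agent.S2137

/-! Tor-independent base change of morphisms pseudo-coherent to a given degree. -/

set_option linter.style.haveILetI false
set_option backward.isDefEq.respectTransparency.types false

universe u

open CategoryTheory CategoryTheory.Limits AlgebraicGeometry TensorProduct

attribute [local instance] HasDerivedCategory.standard MvPolynomial.algebraMvPolynomial

namespace Groth.Agent.KSix54.Prod

open Groth.Agent.H9Misc Groth.Agent.H9Misc.DRingRelPC Groth.Agent.H9Misc.DRingLTensor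
  Groth.Agent.KFlatLib

/-- A module which is flat over the base stays pseudo-coherent after base change. -/
theorem pc_module_bc {R P R' P' : Type u} [CommRing R] [CommRing P] [CommRing R'] [CommRing P']
    {φ : R →+* P} {ρ : R →+* R'} {α : P →+* P'} {φ' : R' →+* P'} (h : Pull.IsSquare φ ρ α φ')
    (hφ : φ.Flat) (M : ModuleCat.{u} P) (hM : Module.Flat R ((ModuleCat.restrictScalars φ).obj M))
    {m : ℤ} (hpc : DRing.IsPseudoCoherentModule P m M) :
    DRing.IsPseudoCoherentModule P' m ((ModuleCat.extendScalars.{u, u, u} α).obj M) := by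
  haveI := DRingLBase.hasLBaseChange α
  let S := (HomologicalComplex.single (ModuleCat.{u} P) (ComplexShape.up ℤ) 0).obj M
  let X := (ringCover P).P.obj S
  let s := (ringCover P).ψ.app S
  have hs : QuasiIso s := (ringCover P).quasiIso_ψ S
  have hS : IsKF ((DTen.resCx φ).obj S) := by
    refine DRingTor.isKF_of_flat (b := 0) (fun i => ?_) fun i hi =>
      (ModuleCat.restrictScalars φ).map_isZero (HomologicalComplex.isZero_single_obj_X _ _ _ _ (by omega))
    by_cases hi : i = 0
    · subst hi
      haveI := hM
      exact Module.Flat.of_linearEquiv ((ModuleCat.restrictScalars φ).mapIso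
        (HomologicalComplex.singleObjXSelf (ComplexShape.up ℤ) 0 M)).toLinearEquiv
    · exact Pull.flat_of_isZero _ ((ModuleCat.restrictScalars φ).map_isZero
        (HomologicalComplex.isZero_single_obj_X _ _ _ _ hi))
  have hk := Pull.keepsQis_of_square (C' := P') h hφ (τ := RingHom.id P')
    (RingHom.Flat.of_bijective Function.bijective_id) hS
  rw [RingHom.id_comp] at hk
  have hs' : QuasiIso ((extC' α).map s) := hk X s (kFlat_ringRes S) hs
  obtain ⟨e⟩ := DRingLBase.nonempty_lbase_iso α (kFlat_ringRes S)
  have h1 : IsIso (DerivedCategory.Q.map s) := (DerivedCategory.isIso_Q_map_iff_quasiIso _ _).2 hs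
  have h2 : IsIso (DerivedCategory.Q.map ((extC' α).map s)) :=
    (DerivedCategory.isIso_Q_map_iff_quasiIso _ _).2 hs'
  refine DRingPC.of_iso ?_ (Groth.Agent.S2137.result α _ m hpc)
  exact (DRing.LBaseChange α).mapIso ((DerivedCategory.singleFunctorIsoCompQ (ModuleCat.{u} P) 0).app M ≪≫
      (@asIso _ _ _ _ (DerivedCategory.Q.map s) h1).symm) ≪≫
    e ≪≫ @asIso _ _ _ _ (DerivedCategory.Q.map ((extC' α).map s)) h2 ≪≫
    DerivedCategory.Q.mapIso ((HomologicalComplex.singleMapHomologicalComplex
      (ModuleCat.extendScalars.{u, u, u} α) (ComplexShape.up ℤ) 0).app M) ≪≫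
    ((DerivedCategory.singleFunctorIsoCompQ (ModuleCat.{u} P') 0).app _).symm

variable {R R' A A' B B' : Type u} [CommRing R] [CommRing R'] [CommRing A] [CommRing A'] [CommRing B]
  [CommRing B'] {m : ℤ}

/-- Base change along a tor-independent square of flat algebras. -/
theorem nq_pushout_torInd [Algebra R A] [Algebra R R'] [Algebra A A'] [Algebra R' A'] [Algebra R A']
    [IsScalarTower R A A'] [IsScalarTower R R' A'] [Algebra.IsPushout R R' A A'] [Module.Flat R A]
    [Algebra A B] [Algebra R B] [IsScalarTower R A B] [Module.Flat R B]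
    [Algebra A' B'] [Algebra B B'] [Algebra A B'] [IsScalarTower A A' B'] [IsScalarTower A B B']
    [Algebra.IsPushout A A' B B']
    (h : NQ m (algebraMap A B)) : NQ m (algebraMap A' B') := by
  haveI : Algebra.FiniteType A B := RingHom.finiteType_algebraMap.1 (finiteType_of_nq h)
  obtain ⟨n, f, hf⟩ := Algebra.FiniteType.iff_quotient_mvPolynomial''.1 (inferInstance : Algebra.FiniteType A B)
  obtain ⟨g, hg, hgf, -⟩ := KRegLib.exists_baseChange_presentation (L := A') (B' := B') f hf
  let P := MvPolynomial (Fin n) A
  let P' := MvPolynomial (Fin n) A'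
  haveI : Algebra.IsPushout A A' P P' := Algebra.IsPushout.symm inferInstance
  letI := f.toRingHom.toAlgebra
  letI := g.toRingHom.toAlgebra
  letI : Algebra P B' := ((algebraMap B B').comp f.toRingHom).toAlgebra
  haveI : IsScalarTower A P B := .of_algebraMap_eq fun a => (f.commutes a).symm
  haveI : IsScalarTower A' P' B' := .of_algebraMap_eq fun a => (g.commutes a).symm
  haveI : IsScalarTower P B B' := .of_algebraMap_eq fun _ => rfl
  haveI : IsScalarTower P P' B' := .of_algebraMap_eq fun x => (hgf x).symm
  haveI : IsScalarTower A P B' := .of_algebraMap_eq fun a =>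
    (IsScalarTower.algebraMap_apply A B B' a).trans (congrArg (algebraMap B B') (f.commutes a).symm)
  haveI : IsScalarTower A P P' := .of_algebraMap_eq fun a => (MvPolynomial.map_C _ a).symm
  haveI : IsScalarTower A P' B' := IsScalarTower.of_algebraMap_eq fun a => by
    rw [IsScalarTower.algebraMap_apply A A' B', IsScalarTower.algebraMap_apply A A' P',
      ← IsScalarTower.algebraMap_apply A' P' B']
  haveI hP : Algebra.IsPushout P P' B B' :=
    ((Algebra.IsPushout.comp_iff (R := A) (S := P) (R' := A') (S' := P') (T := B) (T' := B')).1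
      ‹Algebra.IsPushout A A' B B'›.symm).symm
  refine (nq_iff g hg).2 ?_
  let φ : R →+* P := (algebraMap A P).comp (algebraMap R A)
  let φ' : R' →+* P' := (algebraMap A' P').comp (algebraMap R' A')
  have h₁ : CategoryTheory.IsPushout (CommRingCat.ofHom (algebraMap R A)) (CommRingCat.ofHom (algebraMap R R'))
      (CommRingCat.ofHom (algebraMap A A')) (CommRingCat.ofHom (algebraMap R' A')) :=
    CommRingCat.isPushout_iff_isPushout.2 (Algebra.IsPushout.symm inferInstance)
  have h₂ : CategoryTheory.IsPushout (CommRingCat.ofHom (algebraMap A P)) (CommRingCat.ofHom (algebraMap A A'))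
      (CommRingCat.ofHom (algebraMap P P')) (CommRingCat.ofHom (algebraMap A' P')) :=
    CommRingCat.isPushout_iff_isPushout.2 (Algebra.IsPushout.symm inferInstance)
  have hsq : Pull.IsSquare φ (algebraMap R R') (algebraMap P P') φ' := h₁.paste_horiz h₂
  have hflat : φ.Flat := RingHom.Flat.comp (RingHom.flat_algebraMap_iff.2 inferInstance)
    (RingHom.flat_algebraMap_iff.2 (inferInstance : Module.Flat A P))
  have hMf : Module.Flat R ((ModuleCat.restrictScalars φ).obj (ModuleCat.of P B)) := by
    let e : B ≃ₗ[R] ((ModuleCat.restrictScalars φ).obj (ModuleCat.of P B) : Type u) :=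
      { AddEquiv.refl B with
        map_smul' := fun r b => by
          change (r • b : B) = (algebraMap A P (algebraMap R A r)) • b
          rw [algebraMap_smul, algebraMap_smul] }
    exact Module.Flat.of_linearEquiv e.symm
  have h1 : DRing.IsPseudoCoherentModule P' m (P' ⊗[P] B) :=
    pc_tensor_of_extendScalars (ModuleCat.of P B)
      (pc_module_bc hsq hflat (ModuleCat.of P B) hMf ((nq_iff f hf).1 h))
  exact DRingPC.of_iso ((DerivedCategory.singleFunctor (ModuleCat.{u} P') 0).mapIso
    (Algebra.IsPushout.equiv P P' B B').toLinearEquiv.toModuleIso) h1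

end Groth.Agent.KSix54.Prod
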